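import Cfsg.Agent.Co3Out.Model
import Cfsg.Agent.StemCert.MultiExp
import Cfsg.Agent.StemCert.RowStream
import Cfsg.Agent.Co3Out.Mult.Check.Shape
import Cfsg.Agent.Co3Out.Mult.Check.FlatA
import Cfsg.Agent.Co3Out.Mult.Check.FlatB
import Cfsg.Agent.Co3Out.Mult.Check.FlatC
import Cfsg.Agent.Co3Out.Mult.Check.Tables
import Cfsg.Agent.Co3Out.Mult.Check.RowsA
import Cfsg.Agent.Co3Out.Mult.Check.RowsB
import Cfsg.Agent.Co3Out.Mult.Check.RowsC
import Cfsg.Agent.Co3Out.Mult.Check.Basis
import Cfsg.Agent.Co3Out.Mult.Check.Top0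
import Cfsg.Agent.Co3Out.Mult.Check.Top1
import Cfsg.Agent.Co3Out.Mult.Check.Top2
import Cfsg.Agent.Co3Out.Mult.Check.Top3
import Cfsg.Agent.Co3Out.Mult.Check.Top4
import Cfsg.Agent.Co3Out.Mult.Check.Top5
import Cfsg.Agent.Co3Out.Mult.Check.Top6
import Cfsg.Agent.Co3Out.Mult.Check.SecondA
import Cfsg.Agent.Co3Out.Mult.Check.SecondB
import Cfsg.Agent.Co3Out.Mult.Check.Lower

/-! The Schur multiplier of the third Conway group is trivial. -/

set_option autoImplicit false
set_option maxHeartbeats 0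
set_option maxRecDepth 100000
set_option Elab.async false

namespace Cfsg.Agent.Co3Out.Mult

open Cfsg Cfsg.Agent.Compute Cfsg.Agent.StemCert Cfsg.Agent.LeechModel

theorem shape_ok : cert.D.length = 7 ∧ numForms cert.D = 495766656000 ∧ cert.md = 279936000 ∧
    multi.ords = [] := ⟨rfl, by decide +kernel, rfl, rfl⟩

theorem md_pos : 0 < cert.md := by rw [shape_ok.2.2.1]; norm_num

theorem flat_ok : cert.FlatOK flat := by
  refine ⟨rfl, fun i hi => ?_⟩
  rw [shape_ok.1] at hi
  interval_cases i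
  exacts [flat0, flat1, flat2, flat3, flat4, flat5, flat6]

theorem rows_ok : cert.rowsS 19 flat cert.rows rowPacks = true := by
  have h := Nat.eq_of_beq_eq_true rows_len
  refine rowsS_append cert cert.rows rowPacks 20 h rowsA
    (rowsS_append cert _ _ 110 ?_ rowsB rowsC)
  rw [List.length_drop, List.length_drop, h]

theorem rows_both : allB cert.rowOK cert.rows = true ∧ cert.rowsV cert.rows multi.rowVals = true :=
  rows_of_rowsS md_pos hw_ok small_ok wf_ok rel_ok flat_ok cert.rows rowPacks multi.rowVals rows_ok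
    (Multi.boundP_spec cert multi bound_ok).2.1

theorem lv0_ok : cert.lvOK 0 = true := by
  refine lvOK_of_entF md_pos hw_ok small_ok wf_ok rel_ok flat_ok rank_ok
    (by rw [shape_ok.1]; norm_num) fun s hs j hj => ?_
  rw [show (lvAt cert.D 0).gens = [0, 1, 2, 3, 4, 5, 6] from rfl] at hs
  rw [show (lvAt cert.D 0).size = 276 from rfl] at hj
  simp only [List.mem_cons, List.not_mem_nil, or_false] at hs
  rcases hs with rfl | rfl | rfl | rfl | rfl | rfl | rfl
  · exact (Nat.lt_or_ge j 92).elim (fun h => allFrom_spec ent0_0_0 (Nat.zero_le j) h) fun h92 => (Nat.lt_or_ge j 184).elim (fun h => allFrom_spec ent0_0_92 (h92) h) fun h184 => allFrom_spec ent0_0_184 (h184) hj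
  · exact (Nat.lt_or_ge j 92).elim (fun h => allFrom_spec ent0_1_0 (Nat.zero_le j) h) fun h92 => (Nat.lt_or_ge j 184).elim (fun h => allFrom_spec ent0_1_92 (h92) h) fun h184 => allFrom_spec ent0_1_184 (h184) hj
  · exact (Nat.lt_or_ge j 92).elim (fun h => allFrom_spec ent0_2_0 (Nat.zero_le j) h) fun h92 => (Nat.lt_or_ge j 184).elim (fun h => allFrom_spec ent0_2_92 (h92) h) fun h184 => allFrom_spec ent0_2_184 (h184) hj
  · exact (Nat.lt_or_ge j 92).elim (fun h => allFrom_spec ent0_3_0 (Nat.zero_le j) h) fun h92 => (Nat.lt_or_ge j 184).elim (fun h => allFrom_spec ent0_3_92 (h92) h) fun h184 => allFrom_spec ent0_3_184 (h184) hj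
  · exact (Nat.lt_or_ge j 92).elim (fun h => allFrom_spec ent0_4_0 (Nat.zero_le j) h) fun h92 => (Nat.lt_or_ge j 184).elim (fun h => allFrom_spec ent0_4_92 (h92) h) fun h184 => allFrom_spec ent0_4_184 (h184) hj
  · exact (Nat.lt_or_ge j 92).elim (fun h => allFrom_spec ent0_5_0 (Nat.zero_le j) h) fun h92 => (Nat.lt_or_ge j 184).elim (fun h => allFrom_spec ent0_5_92 (h92) h) fun h184 => allFrom_spec ent0_5_184 (h184) hj
  · exact (Nat.lt_or_ge j 92).elim (fun h => allFrom_spec ent0_6_0 (Nat.zero_le j) h) fun h92 => (Nat.lt_or_ge j 184).elim (fun h => allFrom_spec ent0_6_92 (h92) h) fun h184 => allFrom_spec ent0_6_184 (h184) hj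

theorem lv1_ok : cert.lvOK 1 = true := by
  refine lvOK_of_entF md_pos hw_ok small_ok wf_ok rel_ok flat_ok rank_ok
    (by rw [shape_ok.1]; norm_num) fun s hs j hj => ?_
  rw [show (lvAt cert.D 1).gens = [1, 2, 3, 4, 5, 6] from rfl] at hs
  rw [show (lvAt cert.D 1).size = 275 from rfl] at hj
  simp only [List.mem_cons, List.not_mem_nil, or_false] at hs
  rcases hs with rfl | rfl | rfl | rfl | rfl | rfl
  · exact (Nat.lt_or_ge j 138).elim (fun h => allFrom_spec ent1_1_0 (Nat.zero_le j) h) fun h138 => allFrom_spec ent1_1_138 (h138) hj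
  · exact (Nat.lt_or_ge j 138).elim (fun h => allFrom_spec ent1_2_0 (Nat.zero_le j) h) fun h138 => allFrom_spec ent1_2_138 (h138) hj
  · exact (Nat.lt_or_ge j 138).elim (fun h => allFrom_spec ent1_3_0 (Nat.zero_le j) h) fun h138 => allFrom_spec ent1_3_138 (h138) hj
  · exact (Nat.lt_or_ge j 138).elim (fun h => allFrom_spec ent1_4_0 (Nat.zero_le j) h) fun h138 => allFrom_spec ent1_4_138 (h138) hj
  · exact (Nat.lt_or_ge j 138).elim (fun h => allFrom_spec ent1_5_0 (Nat.zero_le j) h) fun h138 => allFrom_spec ent1_5_138 (h138) hj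
  · exact (Nat.lt_or_ge j 138).elim (fun h => allFrom_spec ent1_6_0 (Nat.zero_le j) h) fun h138 => allFrom_spec ent1_6_138 (h138) hj

theorem lv2_ok : cert.lvOK 2 = true := by
  refine lvOK_of_entF md_pos hw_ok small_ok wf_ok rel_ok flat_ok rank_ok
    (by rw [shape_ok.1]; norm_num) fun s hs j hj => ?_
  rw [show (lvAt cert.D 2).gens = [2, 3, 4, 5, 6] from rfl] at hs
  rw [show (lvAt cert.D 2).size = 112 from rfl] at hj
  simp only [List.mem_cons, List.not_mem_nil, or_false] at hs
  rcases hs with rfl | rfl | rfl | rfl | rfl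
  · exact allFrom_spec ent2_2_0 (Nat.zero_le j) hj
  · exact allFrom_spec ent2_3_0 (Nat.zero_le j) hj
  · exact allFrom_spec ent2_4_0 (Nat.zero_le j) hj
  · exact allFrom_spec ent2_5_0 (Nat.zero_le j) hj
  · exact allFrom_spec ent2_6_0 (Nat.zero_le j) hj

theorem lv3_ok : cert.lvOK 3 = true := by
  refine lvOK_of_entF md_pos hw_ok small_ok wf_ok rel_ok flat_ok rank_ok
    (by rw [shape_ok.1]; norm_num) fun s hs j hj => ?_
  rw [show (lvAt cert.D 3).gens = [3, 4, 5, 6] from rfl] at hs
  rw [show (lvAt cert.D 3).size = 81 from rfl] at hj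
  simp only [List.mem_cons, List.not_mem_nil, or_false] at hs
  rcases hs with rfl | rfl | rfl | rfl
  · exact allFrom_spec ent3_3_0 (Nat.zero_le j) hj
  · exact allFrom_spec ent3_4_0 (Nat.zero_le j) hj
  · exact allFrom_spec ent3_5_0 (Nat.zero_le j) hj
  · exact allFrom_spec ent3_6_0 (Nat.zero_le j) hj

theorem lv4_ok : cert.lvOK 4 = true := by
  refine lvOK_of_entF md_pos hw_ok small_ok wf_ok rel_ok flat_ok rank_ok
    (by rw [shape_ok.1]; norm_num) fun s hs j hj => ?_
  rw [show (lvAt cert.D 4).gens = [4, 5, 6] from rfl] at hs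
  rw [show (lvAt cert.D 4).size = 45 from rfl] at hj
  simp only [List.mem_cons, List.not_mem_nil, or_false] at hs
  rcases hs with rfl | rfl | rfl
  · exact allFrom_spec ent4_4_0 (Nat.zero_le j) hj
  · exact allFrom_spec ent4_5_0 (Nat.zero_le j) hj
  · exact allFrom_spec ent4_6_0 (Nat.zero_le j) hj

theorem lv5_ok : cert.lvOK 5 = true := by
  refine lvOK_of_entF md_pos hw_ok small_ok wf_ok rel_ok flat_ok rank_ok
    (by rw [shape_ok.1]; norm_num) fun s hs j hj => ?_
  rw [show (lvAt cert.D 5).gens = [5, 6] from rfl] at hs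
  rw [show (lvAt cert.D 5).size = 8 from rfl] at hj
  simp only [List.mem_cons, List.not_mem_nil, or_false] at hs
  rcases hs with rfl | rfl
  · exact allFrom_spec ent5_5_0 (Nat.zero_le j) hj
  · exact allFrom_spec ent5_6_0 (Nat.zero_le j) hj

theorem lv6_ok : cert.lvOK 6 = true := by
  refine lvOK_of_entF md_pos hw_ok small_ok wf_ok rel_ok flat_ok rank_ok
    (by rw [shape_ok.1]; norm_num) fun s hs j hj => ?_
  rw [show (lvAt cert.D 6).gens = [6] from rfl] at hs
  rw [show (lvAt cert.D 6).size = 2 from rfl] at hj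
  simp only [List.mem_cons, List.not_mem_nil, or_false] at hs
  subst hs
  · exact allFrom_spec ent6_6_0 (Nat.zero_le j) hj

theorem checked : multi.Checked cert 7 where
  wf := wf_ok
  top := top_ok
  rel := rel_ok
  pow := pow_ok
  comm := commData_ok
  lv := fun i hi => by
    rw [shape_ok.1] at hi
    interval_cases i
    exacts [lv0_ok, lv1_ok, lv2_ok, lv3_ok, lv4_ok, lv5_ok, lv6_ok]
  row := rows_both.1
  rows := rows_both.2
  len := rfl
  basis := allBelow_eq_true.mpr fun j hj =>
    multi.basisOK_of_basisP cert bound_ok (allBelow_eq_true.mp basisP_ok j hj)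
  order := by rw [shape_ok.2.2.2]; rfl

/-- The generators of the certificate. -/
noncomputable def g (s : ℕ) : ↥Spor.Co3 := evalW gen (words.getD s [])

theorem g_coded : Coded (w := 9) (k := 7) ι g codes := coded_of_wordsB coded words_ok

/-- Every stem extension has trivial kernel. -/
theorem ker_eq_bot {Γ : Type} [Group Γ] [Finite Γ] (σ : Γ →* ↥Spor.Co3)
    (hσ : Cfsg.IsStemExtension σ) : σ.ker = ⊥ := by
  have hlt : ∀ b ∈ base, b < 276 := fun b hb => by simpa [Nat.blt_eq] using allB_spec blt_ok b hb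
  have hcard : numForms cert.D = Nat.card ↥Spor.Co3 := by rw [shape_ok.2.1, card_co3]
  have hbase := isBase_of_card g_coded wf_ok below_ok hlt distinct_ok hcard
  have hexp : ∀ c ∈ σ.ker, c ^ cert.md = 1 := by
    rw [shape_ok.2.2.1]
    refine ker_pow_eq_one σ hσ (r := 1771) (by rw [card_co3]) fun p hp hpr => ?_
    have hle : p ≤ 1771 := Nat.le_of_dvd (by norm_num) hpr
    have hmem : p ∈ [7, 11, 23] := by
      have h : p ∣ 7 * (11 * 23) := by norm_num; exact hpr
      rcases (Nat.Prime.dvd_mul hp).mp h with h | h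
      · simp [(Nat.prime_dvd_prime_iff_eq hp (by norm_num)).mp h]
      · rcases (Nat.Prime.dvd_mul hp).mp h with h | h
        · simp [(Nat.prime_dvd_prime_iff_eq hp (by norm_num)).mp h]
        · simp [(Nat.prime_dvd_prime_iff_eq hp (by norm_num)).mp h]
    fin_cases hmem <;> decide
  obtain ⟨u, -, hle⟩ := exists_generators_of_exp g checked
    (tableOK_of_check g_coded hbase wf_ok below_ok fun i hi => by
      rw [shape_ok.1] at hi
      interval_cases i
      exacts [table0, table1, table2, table3, table4, table5, table6])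
    (faithful_of_distinct g_coded wf_ok below_ok hlt distinct_ok)
    (generates_of_card g_coded wf_ok below_ok hlt distinct_ok hcard)
    (commProd_of_check g_coded hbase pow_ok below_ok commData_ok comm_ok) σ hσ hexp
  rw [eq_bot_iff]
  refine hle.trans ?_
  have he : {r : ℕ | r < multi.ords.length} = ∅ := by rw [shape_ok.2.2.2]; simp
  rw [he, Set.image_empty, Subgroup.closure_empty]

/-- The multiplier is trivial. -/
theorem multiplier : Cfsg.HasCyclicSchurMultiplier ↥Spor.Co3 1 := by
  have hid : (MonoidHom.id ↥Spor.Co3).ker = ⊥ :=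
    (MonoidHom.ker_eq_bot_iff _).mpr Function.injective_id
  refine ⟨⟨↥Spor.Co3, inferInstance, inferInstance, MonoidHom.id _,
    ⟨Function.surjective_id, hid ▸ bot_le, hid ▸ bot_le⟩, ?_⟩, fun Γ _ _ σ hσ => ⟨1, fun z => ⟨1, ?_⟩⟩⟩
  · have : Subsingleton (MonoidHom.id ↥Spor.Co3).ker := by rw [hid]; infer_instance
    have : Unique (MonoidHom.id ↥Spor.Co3).ker := uniqueOfSubsingleton 1
    exact ⟨MulEquiv.ofUnique⟩
  · have hz : (z : Γ) ∈ (⊥ : Subgroup Γ) := ker_eq_bot σ hσ ▸ z.2
    exact Subtype.ext (by simpa using (Subgroup.mem_bot.mp hz).symm)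

end Cfsg.Agent.Co3Out.Mult
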